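import Cfsg.Agent.Cit.QuoCen
import Cfsg.Agent.Cit.Nil.IndDefs
import Cfsg.Agent.Cit.Nil.Three.Inst
import Cfsg.Agent.ONType.CzIso
import Cfsg.Agent.FixBN.BTheorem

/-!
# The frame of S1309, step (c): the quotient by the centre (helper500 #18448)

* `cm_of_map` : members which commute modulo a central subgroup commute;
* `exists_compl` : `Z ≤ Z(Y)` a 2-group with `|Y : Z|` odd has a normal complement;
* `three_lift` : `Three (K.map f) → Three K`;
* `quo` : ONE or THREE, if `F*(G) = L Z(G)`, `L` quasisimple.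
-/

set_option autoImplicit false
set_option linter.style.haveILetI false
set_option linter.unusedSectionVars false
set_option maxHeartbeats 400000

namespace Cfsg.Agent.Cit.Nil.Ind

open Subgroup Cfsg Cit IndDefs RTwo Three

universe u

section

variable {G G' : Type*} [Group G] [Group G'] [Finite G] {f : G →* G'} {Om : Set (Subgroup G)} {K L : Subgroup G}

/-- members which commute modulo a central subgroup commute -/
theorem cm_of_map (h : H8 Om) (hC : f.ker ≤ center G) (hKC : ∀ K ∈ Om, K ⊓ f.ker = ⊥) (hK : K ∈ Om) (hL : L ∈ Om)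
    (hc : Cm (K.map f) (L.map f)) : Cm K L := by
  -- `[K, L] ≤ ker`
  have hker : ∀ k ∈ K, ∀ l ∈ L, k * l * k⁻¹ * l⁻¹ ∈ f.ker := by
    intro k hk l hl
    have h1 := hc (f k) ⟨k, hk, rfl⟩ (f l) ⟨l, hl, rfl⟩
    rw [MonoidHom.mem_ker, map_mul, map_mul, map_mul, h1, map_inv, map_inv]
    group
  have hnor : ∀ {K L : Subgroup G}, K ∈ Om → L ∈ Om → (∀ k ∈ K, ∀ l ∈ L, k * l * k⁻¹ * l⁻¹ ∈ f.ker) →
      K ≤ normalizer (L : Set G) := by
    intro K L hK hL hker
    obtain ⟨x, hx⟩ := h.exists_q3 hK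
    have key : ∀ i, x i ∈ normalizer (L : Set G) := by
      intro i
      have h2 : IsPGroup 2 (zpowers (x i)) := (h.isPGroup hK).to_le (zpowers_le.2 (hx.mem i))
      have h4 : 4 ≤ orderOf (x i) := by
        have h5 : orderOf (x i) = 2 ^ (1 + 1) := by
          refine orderOf_eq_prime_pow ?_ ?_
          · rw [pow_one, pow_two, hx.sq]; exact hx.z1
          · rw [show (2 : ℕ) ^ (1 + 1) = 2 * 2 from rfl, pow_mul, pow_two (x i), hx.sq, pow_two, hx.z2]
        rw [h5]; norm_num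
      refine h.hyp.h3 K hK L hL (x i) (hx.mem i) h2 h4 ?_
      exact QuoCen.comm_of_central h.hyp hK hL hC (hKC K hK) (hx.mem i) h2 h4
        (hker _ (hx.mem i) _ (h.hyp.zz_mem hL))
    exact hx.le_of_mem (i := 0) (j := 1) (by decide) (key 0) (key 1)
  have hKL := hnor hK hL hker
  have hLK := hnor hL hK (fun l hl k hk => by
    have h1 := inv_mem (hker k hk l hl)
    have e : (k * l * k⁻¹ * l⁻¹)⁻¹ = l * k * l⁻¹ * k⁻¹ := by group
    rwa [e] at h1)
  intro k hk l hl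
  have h1 : k * l * k⁻¹ * l⁻¹ ∈ K ⊓ f.ker := by
    refine ⟨?_, hker k hk l hl⟩
    have h2 : l * k⁻¹ * l⁻¹ ∈ K := (mem_normalizer_iff.1 (hLK hl) _).1 (K.inv_mem hk)
    have e : k * l * k⁻¹ * l⁻¹ = k * (l * k⁻¹ * l⁻¹) := by group
    rw [e]; exact mul_mem hk h2
  rw [hKC K hK, mem_bot, mul_inv_eq_one, mul_inv_eq_iff_eq_mul] at h1
  exact h1

/-- a central 2-subgroup of odd index has a normal complement -/
theorem exists_compl {Y : Type*} [Group Y] [Finite Y] {Z : Subgroup Y} (hZ : Z ≤ center Y) (h2 : IsPGroup 2 Z)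
    (ho : ¬ 2 ∣ Z.index) : ∃ N : Subgroup Y, N.Normal ∧ N ⊓ Z = ⊥ ∧ ∀ y, ∃ n ∈ N, ∃ z ∈ Z, y = n * z := by
  haveI : Fact (Nat.Prime 2) := ⟨Nat.prime_two⟩
  haveI hZn : Z.Normal := ⟨fun z hz g => by
    rw [mem_center_iff.1 (hZ hz) g, mul_inv_cancel_right]; exact hz⟩
  have hcop : Nat.Coprime (Nat.card Z) Z.index := by
    obtain ⟨n, hn⟩ := IsPGroup.iff_card.1 h2
    rw [hn]
    exact Nat.Coprime.pow_left n ((Nat.Prime.coprime_iff_not_dvd Nat.prime_two).2 ho)
  obtain ⟨N, hN⟩ := exists_left_complement'_of_coprime hcop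
  have hmul : ∀ y : Y, ∃ n ∈ N, ∃ z ∈ Z, y = n * z := by
    intro y
    obtain ⟨⟨n, z⟩, h1⟩ := hN.surjective y
    exact ⟨n, n.2, z, z.2, h1.symm⟩
  refine ⟨N, ⟨?_⟩, hN.disjoint.eq_bot, hmul⟩
  intro n hn y
  obtain ⟨n', hn', z, hz, rfl⟩ := hmul y
  have h1 : z * n = n * z := (mem_center_iff.1 (hZ hz) n).symm
  have e : n' * z * n * (n' * z)⁻¹ = n' * (z * n * z⁻¹) * n'⁻¹ := by group
  rw [e, h1, mul_inv_cancel_right]
  exact mul_mem (mul_mem hn' hn) (inv_mem hn')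

theorem q3_conj_mem {z k l : G} {x : Fin 3 → G} (hx : Q3 K z x) (hk : k ∈ K) (hl : l ∈ K) :
    k * l * k⁻¹ = l ∨ k * l * k⁻¹ = z * l := by
  rcases hx.cov k hk with rfl | rfl | ⟨j, rfl | rfl⟩
  · left; group
  · left
    rcases hx.cov l hl with rfl | rfl | ⟨i, rfl | rfl⟩
    · group
    · group
    · rw [hx.zc, mul_inv_cancel_right]
    · rw [hx.zzx, hx.zinv, ← hx.zc]
  · exact q3_conj_cases hx hl j
  · have hzl : z * (x j * l * (x j)⁻¹) * z⁻¹ = x j * l * (x j)⁻¹ := by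
      have hm : x j * l * (x j)⁻¹ ∈ K := mul_mem (mul_mem (hx.mem j) hl) (inv_mem (hx.mem j))
      rcases hx.cov _ hm with h1 | h1 | ⟨i, h1 | h1⟩ <;> rw [h1]
      · group
      · group
      · rw [hx.zc, mul_inv_cancel_right]
      · rw [hx.zzx, hx.zinv, ← hx.zc]
    have e : z * x j * l * (z * x j)⁻¹ = z * (x j * l * (x j)⁻¹) * z⁻¹ := by group
    rw [e, hzl]
    exact q3_conj_cases hx hl j

/-- **lifting `Three` through a central 2-subgroup** -/
theorem three_lift (h : H8 Om) (hf : Function.Surjective f) (hC : f.ker ≤ center G) (h2 : IsPGroup 2 f.ker)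
    (hKC : ∀ K ∈ Om, K ⊓ f.ker = ⊥) (hK : K ∈ Om) (h3 : IndDefs.Three (K.map f)) : IndDefs.Three K := by
  haveI : Fact (Nat.Prime 2) := ⟨Nat.prime_two⟩
  haveI : Finite G' := Finite.of_surjective f hf
  obtain ⟨J', hJC', hKJ', hsub', ⟨e'⟩⟩ := h3
  have hz' : zz (K.map f) = f (zz K) := QuoCen.zz_map_of_inf h.hyp hK (hKC K hK)
  obtain ⟨x, hx⟩ := h.exists_q3 hK
  have hH := QuoCen.hyp_img_central h.hyp hf hC hKC
  have hK' : K.map f ∈ img f Om := ⟨K, hK, rfl⟩
  have hcen : ∀ c ∈ f.ker, ∀ g : G, g * c = c * g := fun c hc g => mem_center_iff.1 (hC hc) g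
  have hcardK' : Nat.card (K.map f) = 8 := by
    rw [← Nat.card_congr (QuoCen.equivMap (hKC K hK)).toEquiv, h.card K hK]
  -- the order of `J'`
  have h16 : ¬ 16 ∣ Nat.card J' := by
    intro h16
    have h1 := Subgroup.card_eq_card_quotient_mul_card_subgroup (oddCore ↥J')
    rw [Nat.card_congr e'.toEquiv, Transfer.SL23Recog.card_sl23] at h1
    have h4 : (Nat.card ↥(oddCore ↥J')).Coprime 2 := Lib.Cores.pPrimeCore_coprime 2
    have h5 : ¬ 2 ∣ Nat.card ↥(oddCore ↥J') := (Nat.Prime.coprime_iff_not_dvd Nat.prime_two).1 h4.symm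
    rw [h1] at h16
    omega
  -- `K'` is normal in `J'`
  have hKn : ∀ j ∈ J', ∀ k ∈ K.map f, j * k * j⁻¹ ∈ K.map f := by
    have h1 : ((K.map f).subgroupOf J').IsSubnormal := by
      exact (hH.sub _ hK').comap (inclusion hJC')
    have h4 : (K.map f).subgroupOf J' ≤ pCore 2 ↥J' := by
      refine Cfsg.Agent.PLocal.SubnormalCore.le_pCore_of_isSubnormal h1 ?_
      exact ((h.isPGroup hK).map f).comap_subtype
    have h5 : (K.map f).subgroupOf J' = pCore 2 ↥J' := by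
      refine Subgroup.eq_of_le_of_card_ge h4 ?_
      rw [Nat.card_congr (subgroupOfEquivOfLe hKJ').toEquiv, hcardK']
      obtain ⟨n, hn⟩ := IsPGroup.iff_card.1 (Lib.Cores.pCore_isPGroup (G := ↥J') 2)
      rw [hn]
      by_contra hlt
      push Not at hlt
      have h6 : 4 ≤ n := by
        by_contra h7
        have h8 : n ≤ 3 := by omega
        have h9 : 2 ^ n ≤ 2 ^ 3 := Nat.pow_le_pow_right (by norm_num) h8
        omega
      apply h16
      have h7 : (16 : ℕ) ∣ 2 ^ n := by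
        rw [show (16 : ℕ) = 2 ^ 4 from rfl]
        exact pow_dvd_pow 2 h6
      rw [← hn] at h7
      exact h7.trans (card_subgroup_dvd_card _)
    have h6 : ((K.map f).subgroupOf J').Normal := by rw [h5]; exact Lib.Cores.pCore_normal 2
    intro j hj k hk
    exact mem_subgroupOf.1 (h6.conj_mem ⟨k, hKJ' hk⟩ (mem_subgroupOf.2 hk) ⟨j, hj⟩)
  obtain ⟨J2, hJ2⟩ : ∃ J2 : Subgroup G, J2 = J'.comap f := ⟨_, rfl⟩
  have mJ2 : ∀ g, g ∈ J2 ↔ f g ∈ J' := fun g => by rw [hJ2, mem_comap]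
  have hkerJ2 : f.ker ≤ J2 := by
    intro c hc
    rw [mJ2, MonoidHom.mem_ker.1 hc]; exact one_mem _
  -- conjugation by `J2`
  have hcj : ∀ g ∈ J2, ∀ k ∈ K, ∃ k' ∈ K, ∃ c ∈ f.ker, g * k * g⁻¹ = k' * c := by
    intro g hg k hk
    obtain ⟨k', hk', e⟩ := hKn (f g) ((mJ2 g).1 hg) (f k) ⟨k, hk, rfl⟩
    refine ⟨k', hk', k'⁻¹ * (g * k * g⁻¹), ?_, by group⟩
    rw [MonoidHom.mem_ker, map_mul, map_inv, e, map_mul, map_mul, map_inv]
    group
  have hcom : ∀ g ∈ J2, ∃ k0 ∈ K, ∃ k1 ∈ K, ∃ c0 ∈ f.ker, ∃ c1 ∈ f.ker, g * x 0 * g⁻¹ = k0 * c0 ∧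
      g * x 1 * g⁻¹ = k1 * c1 ∧ g * zz K * g⁻¹ = k0 * k1 * k0⁻¹ * k1⁻¹ := by
    intro g hg
    obtain ⟨k0, hk0, c0, hc0, e0⟩ := hcj g hg _ (hx.mem 0)
    obtain ⟨k1, hk1, c1, hc1, e1⟩ := hcj g hg _ (hx.mem 1)
    refine ⟨k0, hk0, k1, hk1, c0, hc0, c1, hc1, e0, e1, ?_⟩
    have h1 := hx.conj_ne (i := 0) (j := 1) (by decide)
    have h4 : zz K = x 0 * x 1 * (x 0)⁻¹ * (x 1)⁻¹ := by rw [h1, mul_inv_cancel_right]
    have h5 : g * zz K * g⁻¹ = (g * x 0 * g⁻¹) * (g * x 1 * g⁻¹) * (g * x 0 * g⁻¹)⁻¹ * (g * x 1 * g⁻¹)⁻¹ := by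
      rw [h4]; group
    rw [h5, e0, e1]
    have a0 := hcen c0 hc0
    have a1 := hcen c1 hc1
    calc k0 * c0 * (k1 * c1) * (k0 * c0)⁻¹ * (k1 * c1)⁻¹
        = k0 * (c0 * (k1 * c1)) * c0⁻¹ * k0⁻¹ * c1⁻¹ * k1⁻¹ := by group
      _ = k0 * ((k1 * c1) * c0) * c0⁻¹ * k0⁻¹ * c1⁻¹ * k1⁻¹ := by rw [a0 (k1 * c1)]
      _ = k0 * k1 * (c1 * k0⁻¹) * c1⁻¹ * k1⁻¹ := by group
      _ = k0 * k1 * (k0⁻¹ * c1) * c1⁻¹ * k1⁻¹ := by rw [a1 k0⁻¹]
      _ = _ := by group
  -- `J2 ≤ C(z)`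
  have hJ2z : J2 ≤ centralizer {zz K} := by
    intro g hg
    obtain ⟨k0, hk0, k1, hk1, -, -, -, -, -, -, e⟩ := hcom g hg
    have h1 : g * zz K * g⁻¹ = zz K := by
      rcases q3_conj_mem hx hk0 hk1 with h4 | h4
      · rw [h4, mul_inv_cancel] at e
        exfalso
        apply hx.z1
        have : zz K = g⁻¹ * (g * zz K * g⁻¹) * g := by group
        rw [this, e]; group
      · rw [h4, mul_inv_cancel_right] at e
        exact e
    rw [mem_centralizer_singleton_iff, ← mul_inv_eq_iff_eq_mul, h1]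
  -- `K` is normal in `J2`
  have hKJ2 : K ≤ J2 := fun k hk => (mJ2 k).2 (hKJ' ⟨k, hk, rfl⟩)
  have hnor : ∀ g ∈ J2, cj g K = K := by
    intro g hg
    have hgz : g * zz K = zz K * g := mem_centralizer_singleton_iff.1 (hJ2z hg)
    by_contra hne
    have hzz : zz K = zz (cj g K) := by rw [h.hyp.zz_cj hK, hgz, mul_inv_cancel_right]
    have hc := h.comm hK (h.hyp.conj K hK g) hzz (Ne.symm hne)
    obtain ⟨k0, hk0, k1, hk1, c0, hc0, c1, hc1, e0, e1, e⟩ := hcom g hg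
    have h4 : ∀ {k c : G} {i : Fin 3}, k ∈ K → c ∈ f.ker → g * x i * g⁻¹ = k * c → k = 1 ∨ k = zz K := by
      intro k c i hk hc' e'
      have h5 : ∀ l ∈ K, l * k = k * l := by
        intro l hl
        have h6 := hc l hl _ (conj_mem_cj (hx.mem i))
        rw [e', ← mul_assoc, mul_assoc k c l, ← hcen c hc' l, ← mul_assoc] at h6
        exact mul_right_cancel h6
      exact hx.cent hk (i := 0) (j := 1) (by decide) (h5 _ (hx.mem 0)).symm (h5 _ (hx.mem 1)).symm
    have h5 : k0 * k1 * k0⁻¹ * k1⁻¹ = 1 := by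
      rcases h4 hk0 hc0 e0 with h6 | h6
      · rw [h6]; group
      · have h7 : zz K * k1 = k1 * zz K := by
          rcases h4 hk1 hc1 e1 with h8 | h8 <;> rw [h8]
          rw [mul_one, one_mul]
        rw [h6, h7]; group
    rw [h5] at e
    apply hx.z1
    have : zz K = g⁻¹ * (g * zz K * g⁻¹) * g := by group
    rw [this, e]; group
  haveI hKnorm : (K.subgroupOf J2).Normal := by
    refine ⟨fun k hk g => mem_subgroupOf.2 ?_⟩
    have h1 := conj_mem_cj (g := (g : G)) (mem_subgroupOf.1 hk)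
    rw [hnor g g.2] at h1
    exact h1
  obtain ⟨q, hq⟩ : ∃ q : ↥J2 →* ↥J2 ⧸ K.subgroupOf J2, q = QuotientGroup.mk' (K.subgroupOf J2) := ⟨_, rfl⟩
  have hqs : Function.Surjective q := by rw [hq]; exact QuotientGroup.mk'_surjective _
  have hqk : q.ker = K.subgroupOf J2 := by rw [hq]; exact QuotientGroup.ker_mk' _
  obtain ⟨A, hA⟩ : ∃ A, A = (f.ker.subgroupOf J2).map q := ⟨_, rfl⟩
  obtain ⟨N, hNn, hNA, hNm⟩ : ∃ N : Subgroup (↥J2 ⧸ K.subgroupOf J2), N.Normal ∧ N ⊓ A = ⊥ ∧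
      ∀ y, ∃ n ∈ N, ∃ z ∈ A, y = n * z := by
    refine exists_compl ?_ ?_ ?_
    · rw [hA]
      rintro _ ⟨c, hc, rfl⟩
      rw [mem_center_iff]
      intro g
      obtain ⟨g, rfl⟩ := hqs g
      rw [← map_mul, ← map_mul]
      congr 1
      exact Subtype.ext (hcen c (mem_subgroupOf.1 hc) g)
    · rw [hA]
      exact (h2.comap_subtype (K := J2)).map q
    · intro h4
      -- `|J' : K'|` is odd
      let g : ↥J2 →* ↥J' :=
        { toFun := fun y => ⟨f y, (mJ2 y).1 y.2⟩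
          map_one' := Subtype.ext (map_one f)
          map_mul' := fun a b => Subtype.ext (map_mul f _ _) }
      have hg : Function.Surjective g := by
        rintro ⟨y, hy⟩
        obtain ⟨w, rfl⟩ := hf y
        exact ⟨⟨w, (mJ2 w).2 hy⟩, rfl⟩
      have h5 : ((K.map f).subgroupOf J').comap g ≤ f.ker.subgroupOf J2 ⊔ q.ker := by
        intro y hy
        rw [mem_comap, mem_subgroupOf] at hy
        obtain ⟨k, hk, e⟩ := hy
        have e' : f k = f y := e
        have h6 : (⟨k, hKJ2 hk⟩ : ↥J2) ∈ q.ker := by rw [hqk]; exact mem_subgroupOf.2 hk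
        have h7 : y * (⟨k, hKJ2 hk⟩ : ↥J2)⁻¹ ∈ f.ker.subgroupOf J2 := by
          rw [mem_subgroupOf, MonoidHom.mem_ker]
          show f ((y : G) * k⁻¹) = 1
          rw [map_mul, map_inv, e', mul_inv_cancel]
        have h8 := mul_mem (mem_sup_left h7 : _ ∈ f.ker.subgroupOf J2 ⊔ q.ker) (mem_sup_right h6)
        rwa [inv_mul_cancel_right] at h8
      have h6 := index_dvd_of_le h5
      rw [index_comap_of_surjective _ hg] at h6
      have h7 : A.index = (f.ker.subgroupOf J2 ⊔ q.ker).index := by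
        rw [hA, index_map, MonoidHom.range_eq_top.2 hqs, index_top, mul_one]
      rw [← h7] at h6
      have h8 := (h4.trans h6)
      have h9 := ((K.map f).subgroupOf J').card_mul_index
      rw [Nat.card_congr (subgroupOfEquivOfLe hKJ').toEquiv, hcardK'] at h9
      obtain ⟨m, hm⟩ := h8
      apply h16
      rw [← h9, hm]
      exact ⟨m, by ring⟩
  obtain ⟨J, hJ⟩ : ∃ J : Subgroup G, J = (N.comap q).map J2.subtype := ⟨_, rfl⟩
  have mJ : ∀ g, g ∈ J ↔ ∃ hg : g ∈ J2, q ⟨g, hg⟩ ∈ N := by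
    intro g
    rw [hJ]
    constructor
    · rintro ⟨y, hy, rfl⟩
      exact ⟨y.2, hy⟩
    · rintro ⟨hg, hy⟩
      exact ⟨⟨g, hg⟩, hy, rfl⟩
  have hJJ2 : J ≤ J2 := fun g hg => ((mJ g).1 hg).1
  have hKJ : K ≤ J := by
    intro k hk
    refine (mJ k).2 ⟨hKJ2 hk, ?_⟩
    have h1 : (⟨k, hKJ2 hk⟩ : ↥J2) ∈ q.ker := by rw [hqk]; exact mem_subgroupOf.2 hk
    rw [MonoidHom.mem_ker.1 h1]; exact one_mem _
  have hJker : J ⊓ f.ker = ⊥ := by
    rw [eq_bot_iff]
    rintro y ⟨hy, hyk⟩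
    obtain ⟨hy2, hyN⟩ := (mJ y).1 hy
    have h1 : q ⟨y, hy2⟩ ∈ N ⊓ A := by
      refine ⟨hyN, ?_⟩
      rw [hA]
      exact ⟨⟨y, hy2⟩, mem_subgroupOf.2 hyk, rfl⟩
    rw [hNA, mem_bot] at h1
    have h4 : (⟨y, hy2⟩ : ↥J2) ∈ q.ker := h1
    rw [hqk] at h4
    have h5 : y ∈ K ⊓ f.ker := ⟨mem_subgroupOf.1 h4, hyk⟩
    rwa [hKC K hK] at h5
  have hJmap : J.map f = J' := by
    refine le_antisymm ?_ ?_
    · rintro _ ⟨y, hy, rfl⟩
      exact (mJ2 y).1 (hJJ2 hy)
    · intro w hw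
      obtain ⟨y, rfl⟩ := hf w
      have hy := (mJ2 y).2 hw
      obtain ⟨n, hn, c, hc, e⟩ := hNm (q ⟨y, hy⟩)
      rw [hA] at hc
      obtain ⟨c, hc, rfl⟩ := hc
      refine ⟨y * (c : G)⁻¹, (mJ _).2 ⟨mul_mem hy (inv_mem c.2), ?_⟩, ?_⟩
      · have h1 : (⟨y * (c : G)⁻¹, mul_mem hy (inv_mem c.2)⟩ : ↥J2) = ⟨y, hy⟩ * c⁻¹ := rfl
        rw [h1, map_mul, e, map_inv, mul_inv_cancel_right]
        exact hn
      · rw [map_mul, map_inv, MonoidHom.mem_ker.1 (mem_subgroupOf.1 hc), inv_one, mul_one]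
  have hJn : ∀ m ∈ J2, ∀ j ∈ J, m * j * m⁻¹ ∈ J := by
    intro m hm j hj
    obtain ⟨hj2, hjN⟩ := (mJ j).1 hj
    refine (mJ _).2 ⟨mul_mem (mul_mem hm hj2) (inv_mem hm), ?_⟩
    have h1 := hNn.conj_mem _ hjN (q ⟨m, hm⟩)
    rw [← map_mul, ← map_inv, ← map_mul] at h1
    exact h1
  have hsub2 : (J2.subgroupOf (centralizer {zz K})).IsSubnormal := by
    have hmem : ∀ y : ↥(centralizer ({zz K} : Set G)), f y ∈ centralizer ({zz (K.map f)} : Set G') := by
      intro y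
      rw [hz', mem_centralizer_singleton_iff, ← map_mul, ← map_mul, mem_centralizer_singleton_iff.1 y.2]
    let g : ↥(centralizer ({zz K} : Set G)) →* ↥(centralizer ({zz (K.map f)} : Set G')) :=
      { toFun := fun y => ⟨f y, hmem y⟩
        map_one' := Subtype.ext (map_one f)
        map_mul' := fun a b => Subtype.ext (map_mul f _ _) }
    have h1 := hsub'.comap g
    convert h1 using 1
    ext y
    rw [mem_subgroupOf, mJ2, mem_comap, mem_subgroupOf]
    rfl
  refine ⟨J, hJJ2.trans hJ2z, hKJ, subnStep hJJ2 hsub2 hJn, ?_⟩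
  have e2 : J ≃* J' := (QuoCen.equivMap hJker).trans (MulEquiv.subgroupCongr hJmap)
  exact ⟨(QuotientGroup.congr (oddCore ↥J) (oddCore ↥J') e2 (Lib.Cores.map_equiv_pPrimeCore e2 2)).trans e'⟩

end

section

variable {G : Type u} [Group G] [Finite G] {Om : Set (Subgroup G)} {L : Subgroup G}

/-- `C_G(L) = Z(G)` -/
theorem centralizer_eq (huni : ∀ L', IsComponent L' → L' = L) (hcore : pPrimeCore 2 G = ⊥)
    (hZ : pCore 2 G = center G) : centralizer (L : Set G) = center G := by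
  refine le_antisymm ?_ (fun g hg => mem_centralizer_iff.2 fun y _ => (mem_center_iff.1 hg y))
  intro g hg
  have h1 : g ∈ centralizer (generalizedFittingSubgroup G : Set G) := by
    have h2 : generalizedFittingSubgroup G ≤ centralizer ({g} : Set G) := by
      refine sup_le ?_ ?_
      · rw [SignalizersComponents.Components.layer_le_iff]
        intro L' hL' y hy
        rw [huni L' hL'] at hy
        rw [mem_centralizer_singleton_iff]
        exact mem_centralizer_iff.1 hg y hy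
      · intro y hy
        rw [mem_centralizer_singleton_iff]
        have h3 : y ∈ center G := by rw [← hZ]; exact ThreePrime.Pump.fitting_le_pCore hcore hy
        exact (mem_center_iff.1 h3 g).symm
    rw [mem_centralizer_iff]
    intro y hy
    exact mem_centralizer_singleton_iff.1 (h2 hy)
  rw [← hZ]
  exact ThreePrime.Pump.fitting_le_pCore hcore (TwoFusion.FStarControl.centralizer_genFitting_le_fitting h1)

/-- **the frame, step (c)** -/
theorem quo (hSC : SC.{u}) (t : T0 Om) (top : sSup Om = ⊤) (conn : ∀ K ∈ Om, ∀ L ∈ Om, L ∈ comp Om K)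
    (ih : ∀ (H : Type u) [Group H] [Finite H] (Om' : Set (Subgroup H)), Nat.card H < Nat.card G → T0 Om' →
      ∀ K ∈ Om', TStat Om' K)
    (hL : IsComponent L) (hN : L.Normal) (huni : ∀ L', IsComponent L' → L' = L) (hZ : pCore 2 G = center G)
    (_hzL : ∀ K ∈ Om, zz K ∈ L) (hz : ∀ K ∈ Om, zz K ∉ center G) : ∀ K ∈ Om, ONE Om K ∨ THREE Om K := by
  haveI : Fact (Nat.Prime 2) := ⟨Nat.prime_two⟩
  intro K hK
  by_contra hcon
  push Not at hcon
  obtain ⟨hone, hthree⟩ := hcon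
  have h : H8 Om := ⟨t.hyp, t.card⟩
  -- the pair
  obtain ⟨K1, hK1, K2, hK2, hc12, M, hM, y, hy, hne⟩ : ∃ K₁ ∈ comp Om K, ∃ K₂ ∈ comp Om K, Cm K₁ K₂ ∧
      ∃ M ∈ comp Om K, ∃ y ∈ M, zz K₁ * zz K₂ * y ≠ y * (zz K₁ * zz K₂) := by
    by_contra hcon
    apply hone
    intro K1 hK1 K2 hK2 hc M hM y hy
    by_contra hne
    exact hcon ⟨K1, hK1, K2, hK2, hc, M, hM, y, hy, hne⟩
  have hK1O := comp_sub hK hK1
  have hK2O := comp_sub hK hK2
  -- the quotient
  obtain ⟨f, hfd⟩ : ∃ f : G →* G ⧸ center G, f = QuotientGroup.mk' (center G) := ⟨_, rfl⟩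
  have hf : Function.Surjective f := by rw [hfd]; exact QuotientGroup.mk'_surjective _
  have hfk : f.ker = center G := by rw [hfd]; exact QuotientGroup.ker_mk' _
  have hC : f.ker ≤ center G := hfk.le
  have h2 : IsPGroup 2 f.ker := by rw [hfk, ← hZ]; exact Lib.Cores.pCore_isPGroup 2
  have hKC : ∀ K ∈ Om, K ⊓ f.ker = ⊥ := by
    intro K hK
    obtain ⟨x, hx⟩ := h.exists_q3 hK
    have hzf : zz K ∉ f.ker := by rw [hfk]; exact hz K hK
    rw [eq_bot_iff]
    rintro k ⟨hk, hkf⟩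
    rw [mem_bot]
    rcases hx.cov k hk with h1 | h1 | ⟨i, h1 | h1⟩
    · exact h1
    · exact absurd (h1 ▸ hkf) hzf
    · exfalso
      apply hzf
      rw [← hx.sq i, ← h1]
      exact mul_mem hkf hkf
    · exfalso
      apply hzf
      have e : zz K = k * k := by
        rw [h1]
        calc zz K = zz K * (zz K * (x i * x i)) := by rw [hx.sq, hx.z2, mul_one]
          _ = zz K * (zz K * x i) * x i := by group
          _ = zz K * (x i * zz K) * x i := by rw [hx.zc]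
          _ = _ := by group
      rw [e]
      exact mul_mem hkf hkf
  have hzm : ∀ K ∈ Om, zz (K.map f) = f (zz K) := fun K hK => QuoCen.zz_map_of_inf h.hyp hK (hKC K hK)
  -- the image of `L`
  have hCL : centralizer (L : Set G) = center G := centralizer_eq huni t.core hZ
  have hperf : Group.IsPerfect L := hL.2.1
  have hCL' : centralizer ((L.map f : Subgroup (G ⧸ center G)) : Set (G ⧸ center G)) = ⊥ := by
    rw [eq_bot_iff]
    intro w hw
    obtain ⟨g, rfl⟩ := hf w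
    obtain ⟨X, hX⟩ : ∃ X : Subgroup G, X = (centralizer ((L.map f : Subgroup (G ⧸ center G)) : Set (G ⧸ center G))).comap f :=
      ⟨_, rfl⟩
    have hgX : g ∈ X := by rw [hX]; exact hw
    have h1 : ⁅X, L⁆ ≤ f.ker := by
      rw [commutator_le]
      intro y hy l hl
      rw [hX, mem_comap, mem_centralizer_iff] at hy
      have h3 := hy (f l) ⟨l, hl, rfl⟩
      rw [MonoidHom.mem_ker, commutatorElement_def, map_mul, map_mul, map_mul, ← h3, map_inv, map_inv]
      group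
    have h3 : ⁅⁅X, L⁆, L⁆ = ⊥ := by
      rw [commutator_eq_bot_iff_le_centralizer]
      intro y hy
      rw [mem_centralizer_iff]
      intro l _
      exact mem_center_iff.1 (hC (h1 hy)) l
    have h4 := SignalizersComponents.Components.commutator_eq_bot_of_commutator_commutator_eq_bot hperf h3
    rw [commutator_eq_bot_iff_le_centralizer, hCL, ← hfk] at h4
    exact MonoidHom.mem_ker.1 (h4 hgX)
  have hLn : (L.map f).Normal := hN.map f hf
  -- `L' ≃ L/Z(L)`
  obtain ⟨g, hg⟩ : ∃ g : ↥L →* ↥(L.map f), g = f.subgroupMap L := ⟨_, rfl⟩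
  have hgs : Function.Surjective g := by rw [hg]; exact f.subgroupMap_surjective L
  have hgk : g.ker = center ↥L := by
    ext y
    rw [MonoidHom.mem_ker, mem_center_iff, hg]
    constructor
    · intro h1 w
      have h3 : (y : G) ∈ f.ker := congrArg Subtype.val h1
      exact Subtype.ext (mem_center_iff.1 (hC h3) w)
    · intro h1
      have h3 : (y : G) ∈ centralizer (L : Set G) := by
        rw [mem_centralizer_iff]
        intro w hw
        exact congrArg Subtype.val (h1 ⟨w, hw⟩)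
      rw [hCL, ← hfk] at h3
      exact Subtype.ext (MonoidHom.mem_ker.1 h3)
  have hsimp : IsSimpleGroup ↥(L.map f) := by
    have hs : IsSimpleGroup (↥L ⧸ center ↥L) := hL.2.2
    have e : ↥(L.map f) ≃* ↥L ⧸ center ↥L :=
      ((QuotientGroup.quotientMulEquivOfEq hgk).symm.trans (QuotientGroup.quotientKerEquivOfSurjective g hgs)).symm
    exact e.isSimpleGroup
  have hna : ¬ IsMulCommutative ↥(L.map f) := by
    intro hcm
    have h1 : L.map f ≤ centralizer ((L.map f : Subgroup (G ⧸ center G)) : Set (G ⧸ center G)) := by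
      intro a ha
      rw [mem_centralizer_iff]
      intro b hb
      exact congrArg Subtype.val (hcm.is_comm.comm (⟨b, hb⟩ : ↥(L.map f)) ⟨a, ha⟩)
    rw [hCL', le_bot_iff] at h1
    have h3 : Nontrivial ↥(L.map f) := hsimp.toNontrivial
    rw [h1] at h3
    exact not_nontrivial _ h3
  have hF : generalizedFittingSubgroup (G ⧸ center G) = L.map f :=
    FixBN.BTheorem.genFitting_eq hLn hsimp hna hCL'
  refine hSC (G ⧸ center G) (img f Om) { t0 := ?_, top := ?_, conn := ?_, simple := ?_, na := ?_, ih := ?_, three := ?_, two := ?_ }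
  · refine ⟨QuoCen.hyp_img_central h.hyp hf hC hKC, ?_, ?_⟩
    · rintro _ ⟨K, hK, rfl⟩
      rw [← Nat.card_congr (QuoCen.equivMap (hKC K hK)).toEquiv, t.card K hK]
    · exact ONType.Cz.oddCore_quotient_central t.core (center G) le_rfl (by rw [← hfk]; exact h2)
  · rw [eq_top_iff]
    intro w _
    obtain ⟨g, rfl⟩ := hf w
    have h1 : (⊤ : Subgroup G) ≤ (sSup (img f Om)).comap f := by
      rw [← top]
      refine sSup_le fun K hK => ?_
      rw [← map_le_iff_le_comap]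
      exact le_sSup ⟨K, hK, rfl⟩
    exact h1 (mem_top g)
  · rintro _ ⟨K, hK, rfl⟩ _ ⟨M, hM, rfl⟩
    have h1 : ∀ A B, Adj Om A B → Adj (img f Om) (A.map f) (B.map f) := fun A B hAB =>
      ⟨⟨A, hAB.1, rfl⟩, ⟨B, hAB.2.1, rfl⟩, fun hc => hAB.2.2 (cm_of_map h hC hKC hAB.1 hAB.2.1 hc)⟩
    exact Relation.ReflTransGen.lift (Subgroup.map f) h1 _ _ (conn K hK M hM)
  · rw [hF]; exact hsimp
  · rw [hF]; exact hna
  · intro H _ _ Om' hlt ht
    refine ih H Om' (lt_of_lt_of_le hlt ?_) ht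
    exact Nat.card_le_card_of_surjective f hf
  · rintro _ ⟨K', hK', rfl⟩ h3
    apply hthree
    exact ⟨K', conn K hK K' hK', three_lift h hf hC h2 hKC hK' h3⟩
  · refine ⟨K1.map f, ⟨K1, hK1O, rfl⟩, K2.map f, ⟨K2, hK2O, rfl⟩, ?_, ?_⟩
    · rintro _ ⟨a, ha, rfl⟩ _ ⟨b, hb, rfl⟩
      rw [← map_mul, ← map_mul, hc12 a ha b hb]
    · rw [hzm K1 hK1O, hzm K2 hK2O]
      intro e
      apply hne
      have h1 : zz K1 * zz K2 ∈ f.ker := by
        rw [MonoidHom.mem_ker, map_mul, e, ← map_mul, h.hyp.zz_mul hK2O, map_one]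
      exact (mem_center_iff.1 (hC h1) y).symm

end

end Cfsg.Agent.Cit.Nil.Ind
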