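import Cfsg.Agent.Cit.Nil.Ind.Red
import Cfsg.Agent.SignalizersComponents.CompBasic

/-!
# The frame of S1309: passage to the subgroup generated by a component of the non-commuting graph
-/

set_option autoImplicit false

namespace Cfsg.Agent.Cit.Nil.Ind.SubB

open Subgroup Cfsg Cit Nil.IndDefs Nil.Ind.Red

variable {G : Type*} [Group G] {Om : Set (Subgroup G)} {K L M B : Subgroup G}

theorem cm_map_iff {A C : Subgroup B} : Cm (A.map B.subtype) (C.map B.subtype) ↔ Cm A C := by
  constructor
  · intro h a ha b hb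
    exact Subtype.ext (h a ⟨a, ha, rfl⟩ b ⟨b, hb, rfl⟩)
  · rintro h _ ⟨a, ha, rfl⟩ _ ⟨b, hb, rfl⟩
    exact congrArg Subtype.val (h a ha b hb)

theorem adj_map_iff {A C : Subgroup B} :
    Adj (restr Om B) A C ↔ Adj Om (A.map B.subtype) (C.map B.subtype) := by
  unfold Adj
  rw [mem_restr, mem_restr, cm_map_iff]

theorem map_mem_comp {A C : Subgroup B} (h : C ∈ comp (restr Om B) A) :
    C.map B.subtype ∈ comp Om (A.map B.subtype) := by
  induction h with
  | refl => exact Relation.ReflTransGen.refl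
  | tail _ hbc ih => exact Relation.ReflTransGen.tail ih (adj_map_iff.1 hbc)

theorem subgroupOf_mem_comp (hB : ∀ L ∈ comp Om K, L ≤ B) (h : L ∈ comp Om K) :
    L.subgroupOf B ∈ comp (restr Om B) (K.subgroupOf B) := by
  have h1 : ∀ L, Relation.ReflTransGen (Adj Om) K L →
      Relation.ReflTransGen (Adj (restr Om B)) (K.subgroupOf B) (L.subgroupOf B) := by
    intro L hL
    induction hL with
    | refl => exact Relation.ReflTransGen.refl
    | tail hab hbc ih =>
      refine Relation.ReflTransGen.tail ih (adj_map_iff.2 ?_)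
      rwa [map_subgroupOf_eq_of_le (hB _ hab), map_subgroupOf_eq_of_le (hB _ (hab.tail hbc))]
  exact h1 L h

section

variable [Finite G]

/-- the subgroup generated by a component of the graph -/
def BB (Om : Set (Subgroup G)) (K : Subgroup G) : Subgroup G := sSup (comp Om K)

theorem le_BB (hL : L ∈ comp Om K) : L ≤ BB Om K := le_sSup hL

theorem cm_BB (hK : K ∈ Om) (hL : L ∈ Om) (hn : L ∉ comp Om K) : Cm (BB Om K) L := by
  rw [Cm_iff_le]
  refine sSup_le fun M hM => Cm_iff_le.1 ?_
  by_contra h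
  exact hn (mem_comp_of hM ⟨comp_sub hK hM, hL, h⟩)

theorem isSubnormal_BB (t : T0 Om) (hK : K ∈ Om) : (BB Om K).IsSubnormal := by
  set G1 : Subgroup G := sSup Om with hG1
  have hle : BB Om K ≤ G1 := sSup_le_sSup (comp_sub hK)
  have hn1 : G1.Normal := by
    refine ⟨fun x hx g => ?_⟩
    have h1 : G1 ≤ G1.comap (MulAut.conj g).toMonoidHom := by
      refine sSup_le fun L hL x hx => ?_
      have h2 : g * x * g⁻¹ ∈ cj g L := conj_mem_cj hx
      exact (le_sSup (t.hyp.conj L hL g) : cj g L ≤ G1) h2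
    exact h1 hx
  have hn2 : G1 ≤ normalizer (BB Om K : Set G) := by
    refine sSup_le fun L hL => ?_
    by_cases h1 : L ∈ comp Om K
    · exact (le_BB h1).trans le_normalizer
    · exact (Cm_iff_le.1 (cm_BB hK hL h1).symm).trans (centralizer_le_normalizer _)
  refine Subgroup.IsSubnormal.trans hle ?_ hn1.isSubnormal
  exact ((normal_subgroupOf_iff_le_normalizer hle).2 hn2).isSubnormal

theorem mem_comp_of_le (t : T0 Om) (hK : K ∈ Om) (hL : L ∈ Om) (hle : L ≤ BB Om K) : L ∈ comp Om K := by
  by_contra hn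
  exact not_cm_self t hL fun a ha b hb => cm_BB hK hL hn a (hle ha) b hb

theorem t0_restr (t : T0 Om) (hB : B.IsSubnormal) : T0 (restr Om B) := by
  refine ⟨t.hyp.restr B, fun K hK => ?_, ?_⟩
  · rw [← t.card _ (mem_restr.1 hK), card_map_of_injective B.subtype_injective]
  · have h3 := Lib.PComponents.map_pPrimeCore_le_of_isSubnormal (p := 2) hB
    rw [t.core, le_bot_iff, Subgroup.map_eq_bot_iff_of_injective _ (Subgroup.subtype_injective _)] at h3
    exact h3

/-- subnormality of images -/
theorem map_isSubnormal {X Y : Type*} [Group X] [Group Y] (f : X →* Y) (hf : f.range.IsSubnormal)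
    {H : Subgroup X} (hH : H.IsSubnormal) : (H.map f).IsSubnormal := by
  have h1 : H.map f = (H.map f.rangeRestrict).map f.range.subtype := by
    rw [Subgroup.map_map]; rfl
  rw [h1]
  exact Subgroup.IsSubnormal.trans' (hH.map f.rangeRestrict_surjective) hf

theorem three_map (t : T0 Om) (hB : B.IsSubnormal) {K₁ : Subgroup B} (hK₁ : K₁ ∈ restr Om B)
    (h : Three K₁) : Three (K₁.map B.subtype) := by
  obtain ⟨J, hJc, hKJ, hJs, ⟨e⟩⟩ := h
  have hz := zz_map t.hyp hK₁
  have hmemc : ∀ x : B, x ∈ centralizer {zz K₁} ↔ (x : G) ∈ centralizer {zz (K₁.map B.subtype)} := by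
    intro x
    rw [mem_centralizer_singleton_iff, mem_centralizer_singleton_iff, ← hz]
    exact ⟨fun h => congrArg Subtype.val h, fun h => Subtype.ext h⟩
  refine ⟨J.map B.subtype, ?_, Subgroup.map_mono hKJ, ?_, ?_⟩
  · rintro _ ⟨x, hx, rfl⟩
    exact (hmemc x).1 (hJc hx)
  · let f : centralizer {zz K₁} →* centralizer {zz (K₁.map B.subtype)} :=
      { toFun := fun x => ⟨((x : B) : G), (hmemc x).1 x.2⟩
        map_one' := rfl
        map_mul' := fun _ _ => rfl }
    have hr : f.range = B.subgroupOf (centralizer {zz (K₁.map B.subtype)}) := by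
      ext x
      constructor
      · rintro ⟨y, rfl⟩
        exact (y : B).2
      · intro hx
        exact ⟨⟨⟨x, hx⟩, (hmemc _).2 x.2⟩, rfl⟩
    have h1 : (J.subgroupOf (centralizer {zz K₁})).map f =
        (J.map B.subtype).subgroupOf (centralizer {zz (K₁.map B.subtype)}) := by
      ext x
      constructor
      · rintro ⟨y, hy, rfl⟩
        exact ⟨y, hy, rfl⟩
      · rintro ⟨y, hy, hyx⟩
        refine ⟨⟨y, hJc hy⟩, hy, Subtype.ext hyx⟩
    rw [← h1]
    refine map_isSubnormal f ?_ hJs
    rw [hr]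
    exact hB.subgroupOf
  · let φ : J ≃* J.map B.subtype := J.equivMapOfInjective B.subtype B.subtype_injective
    have h2 : (oddCore J).map (φ : J →* J.map B.subtype) = oddCore (J.map B.subtype) :=
      Lib.Cores.map_equiv_pPrimeCore φ 2
    exact ⟨(QuotientGroup.congr _ _ φ h2).symm.trans e⟩

/-- transfer of `TStat` from `BB Om K` -/
theorem tStat_of_BB (t : T0 Om) (hK : K ∈ Om)
    (h : TStat (restr Om (BB Om K)) (K.subgroupOf (BB Om K))) : TStat Om K := by
  haveI : Fact (Nat.Prime 2) := ⟨Nat.prime_two⟩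
  set B := BB Om K with hBdef
  have hB := isSubnormal_BB t hK
  have hKB : K ≤ B := le_BB mem_comp_self
  have hle : ∀ L ∈ comp Om K, L ≤ B := fun L hL => le_BB hL
  have hmK : (K.subgroupOf B).map B.subtype = K := map_subgroupOf_eq_of_le hKB
  rcases h with h | h | h
  · left
    have h1 := zz_map t.hyp (subgroupOf_mem_restr hK hKB)
    rw [hmK] at h1
    rw [NIL, ← h1]
    have h2 : pCore 2 B ≤ (pCore 2 G).comap B.subtype := by
      rw [← map_le_iff_le_comap]
      exact SignalizersComponents.CompBasic.subnormal_pGroup_le_pCore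
        (Subgroup.IsSubnormal.trans' (Lib.Cores.pCore_normal 2).isSubnormal hB)
        ((Lib.Cores.pCore_isPGroup 2).map _)
    exact h2 h
  · right; left
    intro K₁ h₁ K₂ h₂ hcm L hL x hx
    have e1 := hle _ h₁
    have e2 := hle _ h₂
    have e3 := hle _ hL
    have hz1 := zz_map t.hyp (subgroupOf_mem_restr (comp_sub hK h₁) e1)
    have hz2 := zz_map t.hyp (subgroupOf_mem_restr (comp_sub hK h₂) e2)
    rw [map_subgroupOf_eq_of_le e1] at hz1
    rw [map_subgroupOf_eq_of_le e2] at hz2
    have h3 := h _ (subgroupOf_mem_comp hle h₁) _ (subgroupOf_mem_comp hle h₂)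
      (fun a ha b hb => Subtype.ext (hcm a ha b hb)) _ (subgroupOf_mem_comp hle hL) ⟨x, e3 hx⟩ hx
    have h4 := congrArg Subtype.val h3
    simp only [Subgroup.coe_mul] at h4
    rw [hz1, hz2] at h4
    exact h4
  · right; right
    obtain ⟨K₁, h₁, h3⟩ := h
    have h4 := map_mem_comp h₁
    rw [hmK] at h4
    refine ⟨_, h4, three_map t hB ?_ h3⟩
    rw [mem_restr]
    exact comp_sub hK h4

end

end Cfsg.Agent.Cit.Nil.Ind.SubB
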