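import Cfsg.Agent.Cit.Nil.Ind.Norm
import Cfsg.Agent.Cit.OneComp
import Cfsg.Agent.Lib.PComponents

/-!
# The frame of S1309: reduction to a component

* `exists_comp` : `G = ⟨Om⟩`, `Om` connected, `z_K ∉ O_2(G)`: there is exactly one component `L`, it is normal,
  contains all `zz J`, and `O_2(G) = Z(G)`.
-/

set_option autoImplicit false

namespace Cfsg.Agent.Cit.Nil.Ind.Red

open Subgroup Cfsg Cit Cit.Comp Nil.IndDefs
open Cfsg.Agent.SignalizersComponents.Components

variable {G : Type*} [Group G]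

theorem isTwo {Om : Set (Subgroup G)} (t : T0 Om) {K : Subgroup G} (hK : K ∈ Om) : IsPGroup 2 K :=
  IsPGroup.of_card (n := 3) (by rw [t.card K hK]; norm_num)

theorem Cm_iff_le {A B : Subgroup G} : Cm A B ↔ A ≤ centralizer (B : Set G) := by
  constructor
  · intro h a ha
    rw [mem_centralizer_iff]
    exact fun b hb => (h a ha b hb).symm
  · intro h a ha b hb
    exact (mem_centralizer_iff.1 (h ha) b hb).symm

/-- induction over a component -/
theorem comp_induction {Om : Set (Subgroup G)} {P : Subgroup G → Prop} {K L : Subgroup G}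
    (hL : L ∈ comp Om K) (hK : P K) (h : ∀ A B, Adj Om A B → P A → P B) : P L := by
  induction hL with
  | refl => exact hK
  | tail _ hbc ih => exact h _ _ hbc ih

variable [Finite G] {Om : Set (Subgroup G)} {K L M : Subgroup G}

/-- two members, `zz L` commutes with `K` elementwise: equal or commuting -/
theorem eq_or_cm (t : T0 Om) (hK : K ∈ Om) (hL : L ∈ Om) (h : ∀ a ∈ K, a * zz L = zz L * a) :
    K = L ∨ Cm K L := by
  by_cases h1 : K = L
  · exact Or.inl h1
  · exact Or.inr (t.hyp.comm_of_zz_comm hK hL (isTwo t hK) (isTwo t hL) h h1)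

theorem not_cm_self (t : T0 Om) (hK : K ∈ Om) : ¬ Cm K K := by
  intro h
  obtain ⟨v, hv, c, hc, hvc⟩ := t.hyp.exists_comm_eq hK (isTwo t hK)
  apply t.hyp.zz_ne hK
  rw [← hvc, h v hv c hc]; group

theorem comm_zz_self (t : T0 Om) (hK : K ∈ Om) : ∀ a ∈ K, a * zz K = zz K * a := fun _ ha =>
  t.hyp.comm_zz hK (le_normalizer ha)

/-- not NIL propagates -/
theorem not_nil (t : T0 Om) (hN : ¬ NIL K) (hL : L ∈ comp Om K) : zz L ∉ pCore 2 G := by
  haveI : Fact (Nat.Prime 2) := ⟨Nat.prime_two⟩
  haveI : (pCore 2 G).Normal := Lib.Cores.pCore_normal 2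
  refine comp_induction (P := fun L => zz L ∉ pCore 2 G) hL hN ?_
  rintro A B hAB hA hB
  have h1 := t.hyp.lemma_one hAB.1 (isTwo t hAB.1) (Lib.Cores.pCore_isPGroup 2)
    (by rw [normalizer_eq_top]; exact le_top) hA
  rcases eq_or_cm t hAB.1 hAB.2.1 (fun a ha => h1 a ha _ hB) with h2 | h2
  · rw [h2] at hA; exact hA hB
  · exact hAB.2.2 h2

/-- a component centralised by `zz K` is centralised by `K` -/
theorem cm_comp (t : T0 Om) (hK : K ∈ Om) (hL : IsComponent L) (h : L ≤ centralizer {zz K}) : Cm K L := by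
  rcases le_or_comm_of_le_centralizer t.hyp hK hL h with h1 | h1
  · exfalso
    haveI : Fact (Nat.Prime 2) := ⟨Nat.prime_two⟩
    apply quasisimple_not_isSolvable hL.2
    have h2 : IsPGroup 2 L := (isTwo t hK).to_le h1
    haveI : Group.IsNilpotent L := h2.isNilpotent
    infer_instance
  · exact fun a ha b hb => (h1 b hb a ha).symm

theorem OO_comp (t : T0 Om) (hL : L.IsSubnormal) : OO L = ⊥ := by
  have h3 := Lib.PComponents.map_pPrimeCore_le_of_isSubnormal (p := 2) hL
  rw [t.core, le_bot_iff] at h3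
  exact h3

theorem exists_comp (t : T0 Om) (top : sSup Om = ⊤) (conn : ∀ K ∈ Om, ∀ L ∈ Om, L ∈ comp Om K)
    (hev : EvQ G) (hev' : EvQ (G ⧸ center G)) (hK : K ∈ Om) (hN : ¬ NIL K) :
    pCore 2 G = center G ∧ ∃ L : Subgroup G, IsComponent L ∧ L.Normal ∧
      (∀ L' : Subgroup G, IsComponent L' → L' = L) ∧ (∀ J ∈ Om, zz J ∈ L) ∧ (∀ J ∈ Om, zz J ∉ center G) := by
  haveI : Fact (Nat.Prime 2) := ⟨Nat.prime_two⟩
  haveI hn2 : (pCore 2 G).Normal := Lib.Cores.pCore_normal 2
  have hz : ∀ J ∈ Om, zz J ∉ pCore 2 G := fun J hJ => not_nil t hN (conn K hK J hJ)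
  have hcen : pCore 2 G ≤ center G := by
    have h1 : (⊤ : Subgroup G) ≤ centralizer (pCore 2 G : Set G) := by
      rw [← top]
      refine sSup_le fun J hJ => Cm_iff_le.1 ?_
      exact t.hyp.lemma_one hJ (isTwo t hJ) (Lib.Cores.pCore_isPGroup 2)
        (by rw [normalizer_eq_top]; exact le_top) (hz J hJ)
    intro x hx
    rw [mem_center_iff]
    intro g
    exact (mem_centralizer_iff.1 (h1 (mem_top g)) x hx).symm
  have hfit : fittingSubgroup G = pCore 2 G :=
    SignalizersComponents.PConstrained.fittingSubgroup_eq_pCore_of_pPrimeCore_eq_bot 2 t.core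
  have hpc : pCore 2 G = center G := by
    apply le_antisymm hcen
    rw [← hfit]
    refine Lib.Cores.le_fittingSubgroup inferInstance ?_
    haveI hc : IsMulCommutative (center G) := inferInstance
    open scoped IsMulCommutative in
    exact CommGroup.isNilpotent
  -- the component
  have hex : ∀ J ∈ Om, ∃ L : Subgroup G, IsComponent L ∧ ¬ L ≤ centralizer {zz J} := by
    intro J hJ
    by_contra hcon
    push Not at hcon
    apply hz J hJ
    apply OneComp.centralizer_genFit_le t.core
    refine OneComp.mem_centralizer_genFit t.core (fun L hL => ?_) ?_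
    · rw [mem_centralizer_iff]
      intro x hx
      exact mem_centralizer_singleton_iff.1 (hcon L hL hx)
    · rw [mem_centralizer_iff]
      intro x hx
      exact (mem_center_iff.1 (hcen hx) _).symm
  obtain ⟨L, hL, hLz⟩ := hex K hK
  -- `Z(L) ≤ Z(G)`
  have hLcen : ∀ x ∈ L, (∀ y ∈ L, x * y = y * x) → x ∈ center G := by
    intro x hx hxL
    apply hcen
    apply OneComp.centralizer_genFit_le t.core
    refine OneComp.mem_centralizer_genFit t.core (fun L' hL' => ?_) ?_
    · rw [mem_centralizer_iff]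
      intro y hy
      by_cases h1 : L' = L
      · subst h1; exact (hxL y hy).symm
      · exact comm_of_ne hL' hL h1 hy hx
    · rw [mem_centralizer_iff]
      intro y hy
      exact (mem_center_iff.1 (hcen hy) _).symm
  have hNL : ∀ J ∈ Om, J ≤ normalizer (L : Set G) := by
    intro J hJ
    by_cases h1 : L ≤ centralizer {zz J}
    · exact (Cm_iff_le.1 (cm_comp t hJ hL h1)).trans (centralizer_le_normalizer _)
    · exact Norm.le_normalizer_comp t.hyp (fun K hK => isTwo t hK) (t.card J hJ) hJ hev' hL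
        (cj_zz_component t.hyp hev hJ hL) (fun h2 => hz J hJ (by rw [hpc]; exact h2)) h1 hLcen
  have hnor : L.Normal := by
    rw [← normalizer_eq_top_iff, eq_top_iff, ← top]
    exact sSup_le hNL
  have hmem : ∀ J ∈ Om, ¬ L ≤ centralizer {zz J} → zz J ∈ L := by
    intro J hJ h1
    by_contra h2
    exact h1 (t.hyp.lemma_two (fun K hK => isTwo t hK) hJ (hNL J hJ) (OO_comp t hL.1) h2)
  have hall : ∀ J ∈ Om, ¬ L ≤ centralizer {zz J} := by
    intro J hJ
    refine comp_induction (P := fun J => ¬ L ≤ centralizer {zz J}) (conn K hK J hJ) hLz ?_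
    rintro A B hAB hA hB
    have h1 := cm_comp t hAB.2.1 hL hB
    rcases eq_or_cm t hAB.2.1 hAB.1 (fun b hb => h1 b hb _ (hmem A hAB.1 hA)) with h2 | h2
    · rw [h2] at hB; exact hA hB
    · exact hAB.2.2 h2.symm
  have huni : ∀ L' : Subgroup G, IsComponent L' → L' = L := by
    intro L' hL'
    by_contra hne
    have h1 : (⊤ : Subgroup G) ≤ centralizer (L' : Set G) := by
      rw [← top]
      refine sSup_le fun J hJ => Cm_iff_le.1 (cm_comp t hJ hL' ?_)
      intro x hx
      rw [mem_centralizer_singleton_iff]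
      exact comm_of_ne hL' hL hne hx (hmem J hJ (hall J hJ))
    apply quasisimple_not_isMulCommutative hL'.2
    refine ⟨⟨fun a b => Subtype.ext ?_⟩⟩
    exact mem_centralizer_iff.1 (h1 (mem_top (b : G))) a a.2
  exact ⟨hpc, L, hL, hnor, huni, fun J hJ => hmem J hJ (hall J hJ), fun J hJ h1 =>
    hz J hJ (by rw [hpc]; exact h1)⟩

end Cfsg.Agent.Cit.Nil.Ind.Red
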