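import Cfsg.Agent.Cit.Nil.IndDefs
import Cfsg.Agent.Cit.Nil.LO.Main
import Cfsg.Agent.Cit.Nil.Unbal.Held

/-!
# The simple case `SCW`: `O(C(t)) = 1` for all involutions

* `SCW.fs` : `FS G`;
* `SCW.free` : from Theorem T, S1311 and the pieces of (n1).
-/

set_option autoImplicit false

namespace Cfsg.Agent.Cit.Nil.Ind.Free

open Subgroup Cfsg Cit Nil.IndDefs

universe u

/-- the inputs: Theorem T, the two sockets of (n1), S1311, the kills of `A_n` and `L₃(4)` -/
structure FreeIn : Prop where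
  hev : ∀ (G : Type u) [Group G] [Finite G], Comp.EvQ G
  hT : TStmt.{u}
  hC : LO.ChartOut.{u}
  hE : LO.ExcOut.{u}
  h1311 : ∀ (G : Type u) [Group G] [Finite G], AssemblyNil.FS G → AssemblyNil.St1311 G
  hAlt : ∀ (G : Type u) [Group G] [Finite G] (Om : Set (Subgroup G)), Hyp Om → (∀ K ∈ Om, Nat.card K = 8) →
    Om.Nonempty → AssemblyNil.FS G → (∃ n : ℕ, Odd n ∧ 7 ≤ n ∧
      Nonempty (↥(generalizedFittingSubgroup G) ≃* ↥(alternatingGroup (Fin n)))) → False
  hL34 : ∀ (G : Type u) [Group G] [Finite G] (Om : Set (Subgroup G)), Hyp Om → (∀ K ∈ Om, Nat.card K = 8) →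
    Om.Nonempty → AssemblyNil.FS G → (∃ (F : Type) (_ : Field F) (_ : Fintype F), Fintype.card F = 4 ∧
      Nonempty (↥(generalizedFittingSubgroup G) ≃* Matrix.ProjectiveSpecialLinearGroup (Fin 3) F)) → False

variable {G : Type u} [Group G] [Finite G] {Om : Set (Subgroup G)}

theorem fs (hev : Comp.EvQ G) (w : SCW G Om) : AssemblyNil.FS G where
  simple := w.simple
  na := w.na
  even := hev _ (LO.quasi_of_simple w.simple w.na)

/-- **(n1) in the simple case** -/
theorem free (i : FreeIn.{u}) (w : SCW G Om) : ∀ t : G, orderOf t = 2 → centralizerPPrimeCore 2 t = ⊥ := by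
  obtain ⟨K₁, h₁, K₂, h₂, hc, hne⟩ := w.two
  have hfs := fs (i.hev G) w
  refine LO.core_eq_bot_of_hyp i.hT i.hC i.hE hfs (i.h1311 G hfs) ?_ w.t0.hyp w.t0.card h₁ h₂ hne ?_
  · rintro (h | h | h)
    · exact i.hAlt G Om w.t0.hyp w.t0.card ⟨K₁, h₁⟩ hfs h
    · exact i.hL34 G Om w.t0.hyp w.t0.card ⟨K₁, h₁⟩ hfs h
    · exact Unbal.Held.he_false w.t0.hyp w.t0.card h₁ hfs h
  · intro a ha
    rw [mem_centralizer_iff]
    exact fun b hb => (hc a ha b hb).symm

end Cfsg.Agent.Cit.Nil.Ind.Free
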