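import Cfsg.Agent.Cit.Nil.IndDefs
import Cfsg.Agent.Cit.NilComp
import Cfsg.Agent.Cit.Comp
import Cfsg.Agent.S0215
import Cfsg.Agent.TwoFusion.Isolated
import Cfsg.Agent.SignalizersComponents.CompBasic

/-!
# The frame of S1309: a member normalises every component

`|K| = 8`, `Z(L) ≤ Z(G)`, `zz K` does not centralise the component `L`: then `K ≤ N(L)`.
-/

set_option autoImplicit false

namespace Cfsg.Agent.Cit.Nil.Ind.Norm

open Subgroup Cfsg Cit Cit.Comp Nil.IndDefs

variable {G : Type*} [Group G]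

section

variable {L L₁ : Subgroup G} {y z g : G}

/-- elementary computations for `y` with `L^y ≠ L`; `n = [z, g]` -/
theorem calc_one (hyz : y * y = z) (hzz : z * z = 1) (hc : ∀ a ∈ L, ∀ b ∈ L₁, a * b = b * a)
    (hy : ∀ a ∈ L, y * a * y⁻¹ ∈ L₁) (hz : ∀ a ∈ L, z * a * z⁻¹ ∈ L) (hg : g ∈ L) :
    (g * (y * g * y⁻¹)) * y * (g * (y * g * y⁻¹))⁻¹ = (z * g * z⁻¹ * g⁻¹)⁻¹ * y ∧
      z * (z * g * z⁻¹ * g⁻¹) * z⁻¹ = (z * g * z⁻¹ * g⁻¹)⁻¹ := by
  have hzi : z⁻¹ = z := inv_eq_of_mul_eq_one_right hzz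
  constructor
  · have h1 := hc (z * g * z⁻¹) (hz g hg) (y * g * y⁻¹) (hy g hg)
    have h2 : y * (g * (y * g * y⁻¹)) * y⁻¹ = (z * g * z⁻¹ * g⁻¹) * (g * (y * g * y⁻¹)) := by
      calc y * (g * (y * g * y⁻¹)) * y⁻¹ = (y * g * y⁻¹) * ((y * y) * g * (y * y)⁻¹) := by group
        _ = (y * g * y⁻¹) * (z * g * z⁻¹) := by rw [hyz]
        _ = (z * g * z⁻¹) * (y * g * y⁻¹) := h1.symm
        _ = _ := by group
    set e := g * (y * g * y⁻¹)
    set n := z * g * z⁻¹ * g⁻¹
    have h3 : y * e = n * e * y := by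
      rw [← h2]; group
    calc e * y * e⁻¹ = n⁻¹ * (n * e * y) * e⁻¹ := by group
      _ = n⁻¹ * (y * e) * e⁻¹ := by rw [h3]
      _ = n⁻¹ * y := by group
  · calc z * (z * g * z⁻¹ * g⁻¹) * z⁻¹ = (z * z) * g * (z⁻¹ * g⁻¹ * z⁻¹) := by group
      _ = g * (z * g⁻¹ * z⁻¹) := by rw [hzz, hzi]; group
      _ = _ := by group

end

section

variable [Finite G] {Om : Set (Subgroup G)} {K L : Subgroup G}

/-- the key computation: `[z, g]² ∈ Z(G) ⟹ [z, g] ∈ Z(G)` for `g ∈ L`, `L^y ≠ L` -/
theorem comm_mem_center (h : Hyp Om) (h2 : ∀ K ∈ Om, IsPGroup 2 K) (hK : K ∈ Om) (hL : IsComponent L)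
    (hzL : cj (zz K) L = L) (hcen : ∀ x ∈ L, (∀ y ∈ L, x * y = y * x) → x ∈ center G) {y : G}
    (hyK : y ∈ K) (hyz : y * y = zz K) (hyL : cj y L ≠ L) {g : G} (hg : g ∈ L)
    (hn : (zz K * g * (zz K)⁻¹ * g⁻¹) * (zz K * g * (zz K)⁻¹ * g⁻¹) ∈ center G) :
    zz K * g * (zz K)⁻¹ * g⁻¹ ∈ center G := by
  set z := zz K with hz
  have hzz : z * z = 1 := h.zz_mul hK
  have hz1 : z ≠ 1 := h.zz_ne hK
  have hzi : z⁻¹ = z := inv_eq_of_mul_eq_one_right hzz
  have hc : ∀ a ∈ L, ∀ b ∈ cj y L, a * b = b * a := fun a ha b hb =>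
    comm_of_ne hL (isComponent_cj hL y) hyL.symm ha hb
  have hy : ∀ a ∈ L, y * a * y⁻¹ ∈ cj y L := fun a ha => conj_mem_cj ha
  have hzm : ∀ a ∈ L, z * a * z⁻¹ ∈ L := fun a ha => by
    have h3 := conj_mem_cj (g := z) ha
    rwa [hzL] at h3
  obtain ⟨e1, e2⟩ := calc_one hyz hzz hc hy hzm hg
  set n := z * g * z⁻¹ * g⁻¹ with hndef
  set e := g * (y * g * y⁻¹) with hedef
  have hnL : n ∈ L := L.mul_mem (hzm g hg) (L.inv_mem hg)
  have hy0 : y * y * (y * y) = 1 := by rw [hyz, hzz]
  -- `m = y n y⁻¹`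
  set m := y * n * y⁻¹ with hmdef
  have hmL : m ∈ cj y L := hy n hnL
  have hnm : n * m = m * n := hc n hnL m hmL
  have hym : y * m * y⁻¹ = n⁻¹ := by
    rw [hmdef, ← e2, ← hyz]; group
  have hnn : ∀ x : G, n * n * x = x * (n * n) := fun x => (mem_center_iff.1 hn x).symm
  -- Step A
  have hA : n * n = 1 := by
    by_contra hne
    have h3 : zz (cj n K) = n * n * z := by
      rw [h.zz_cj hK, ← hz]
      have h4 : z * n⁻¹ = n * z := by
        have : z * n⁻¹ * z⁻¹ = n := by
          have := congrArg (·⁻¹) e2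
          simpa [mul_assoc] using this
        calc z * n⁻¹ = (z * n⁻¹ * z⁻¹) * z := by group
          _ = n * z := by rw [this]
      calc n * z * n⁻¹ = n * (z * n⁻¹) := by group
        _ = n * n * z := by rw [h4]; group
    have h5 := h.comm_of_zz_comm hK (h.conj K hK n) (h2 K hK) (h2 _ (h.conj K hK n)) (by
      intro a ha
      rw [h3]
      have h6 := hnn a
      have h7 : a * z = z * a := h.comm_zz hK (le_normalizer ha)
      calc a * (n * n * z) = (a * (n * n)) * z := by group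
        _ = n * n * a * z := by rw [← h6]
        _ = n * n * (a * z) := by group
        _ = n * n * z * a := by rw [h7]; group) (by
      intro h6
      apply hne
      have h7 := h3
      rw [← h6, ← hz] at h7
      exact (mul_eq_right.1 h7.symm))
    have h8 := h5 y hyK (n * y * n⁻¹) (conj_mem_cj hyK)
    -- `n y n⁻¹ = n m⁻¹ y`
    have h9 : n * y * n⁻¹ = n * m⁻¹ * y := by rw [hmdef]; group
    rw [h9] at h8
    have h10 : y * (n * m⁻¹) * y⁻¹ = n * m⁻¹ := by
      calc y * (n * m⁻¹) * y⁻¹ = y * (n * m⁻¹ * y) * y⁻¹ * y⁻¹ := by group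
        _ = n * m⁻¹ * y * y * y⁻¹ * y⁻¹ := by rw [h8]
        _ = _ := by group
    have h11 : y * (n * m⁻¹) * y⁻¹ = m * n := by
      calc y * (n * m⁻¹) * y⁻¹ = (y * n * y⁻¹) * (y * m * y⁻¹)⁻¹ := by group
        _ = m * n := by rw [hym, ← hmdef]; group
    rw [h11, ← hnm] at h10
    have h12 : m = m⁻¹ := mul_left_cancel h10
    apply hne
    have h13 : m * m = 1 := by
      nth_rewrite 1 [h12]
      exact inv_mul_cancel m
    have h14 : y * (n * n) * y⁻¹ = m * m := by rw [hmdef]; group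
    rw [h13, mul_inv_eq_one, ← hnn y] at h14
    exact mul_eq_right.1 h14
  have hni : n⁻¹ = n := inv_eq_of_mul_eq_one_right hA
  have hzn : z * n = n * z := by
    rw [hni, mul_inv_eq_iff_eq_mul] at e2
    exact e2
  -- Step B
  have hyo : orderOf y = 4 := by
    have h3 : orderOf y = 2 ^ (1 + 1) := orderOf_eq_prime_pow (p := 2) (n := 1) (by
      rw [pow_one, pow_two, hyz]; exact hz1) (by
      have : y ^ (2 ^ (1 + 1)) = y * y * (y * y) := by
        norm_num [pow_succ]; group
      rw [this, hy0])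
    simpa using h3
  have h3 : e * y * e⁻¹ ∈ cj e K := conj_mem_cj hyK
  rw [e1] at h3
  have ho : orderOf (n⁻¹ * y) = 4 := by
    rw [← e1, ← hyo]
    exact (MulAut.conj e).orderOf_eq y
  have h4 := h.h3 (cj e K) (h.conj K hK e) K hK (n⁻¹ * y) h3 ((h2 _ (h.conj K hK e)).to_le (by
    rw [zpowers_le]; exact h3)) (by rw [ho]) (by
    have h7 : y * z = z * y := h.comm_zz hK (le_normalizer hyK)
    rw [hni, ← hz]
    calc n * y * z = n * (y * z) := by group
      _ = (n * z) * y := by rw [h7]; group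
      _ = z * (n * y) := by rw [← hzn]; group)
  have h5 : n ∈ normalizer (K : Set G) := by
    have h6 := (normalizer (K : Set G)).mul_mem h4 ((normalizer (K : Set G)).inv_mem (le_normalizer hyK))
    rw [mul_inv_cancel_right, hni] at h6
    exact h6
  have h6 : n * m⁻¹ ∈ K := by
    have h7 := (mem_normalizer_iff.1 h5 y).1 hyK
    have h8 := K.mul_mem h7 (K.inv_mem hyK)
    have h9 : n * y * n⁻¹ * y⁻¹ = n * m⁻¹ := by rw [hmdef]; group
    rwa [h9] at h8
  have hmm : m * m = 1 := by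
    have : y * (n * n) * y⁻¹ = m * m := by rw [hmdef]; group
    rw [← this, hA]; group
  have hmi : m⁻¹ = m := inv_eq_of_mul_eq_one_right hmm
  rw [hmi] at h6
  by_cases h7 : n * m = 1
  · have h8 : n = m := by
      have := eq_inv_of_mul_eq_one_left h7
      rwa [hmi] at this
    refine hcen n hnL fun x hx => ?_
    rw [h8]
    exact (hc x hx m hmL).symm
  · have h8 : n * m = z := by
      refine h.eq_zz hK h6 ?_ h7
      calc n * m * (n * m) = n * (m * n) * m := by group
        _ = n * (n * m) * m := by rw [hnm]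
        _ = (n * n) * (m * m) := by group
        _ = 1 := by rw [hA, hmm, one_mul]
    have h9 : g * z * g⁻¹ = m := by
      have h10 : z * n = g * z * g⁻¹ := by
        rw [hndef]
        calc z * (z * g * z⁻¹ * g⁻¹) = (z * z) * g * z⁻¹ * g⁻¹ := by group
          _ = g * z * g⁻¹ := by rw [hzz, hzi]; group
      rw [← h10, ← h8]
      calc n * m * n = n * (m * n) := by group
        _ = n * (n * m) := by rw [hnm]
        _ = (n * n) * m := by group
        _ = m := by rw [hA, one_mul]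
    have h10 : g * n * g⁻¹ = 1 := by
      have h11 := hc g hg m hmL
      have h12 : g * z * g⁻¹ = (g * n * g⁻¹) * m := by
        rw [← h8]
        calc g * (n * m) * g⁻¹ = g * n * g⁻¹ * (g * m) * g⁻¹ := by group
          _ = g * n * g⁻¹ * (m * g) * g⁻¹ := by rw [h11]
          _ = _ := by group
      rw [h9] at h12
      exact (mul_eq_right.1 h12.symm)
    rw [mul_inv_eq_one] at h10
    have h11 : n = 1 := mul_eq_left.1 h10
    rw [h11]
    exact (center G).one_mem

end

/-- Glauberman's Z*-theorem for an involution `u` of the subgroup `X`. -/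
theorem zstar_sub [Finite G] {X : Subgroup G} {u : G} (huX : u ∈ X) (hu2 : u * u = 1)
    (hu1 : u ≠ 1) : (∃ h ∈ X, h * u * h⁻¹ ≠ u ∧ u * (h * u * h⁻¹) = h * u * h⁻¹ * u) ∨
      ∃ N : Subgroup G, N ≤ X ∧ Odd (Nat.card N) ∧ (∀ x ∈ X, ∀ n ∈ N, x * n * x⁻¹ ∈ N) ∧
        ∀ x ∈ X, u * x * u⁻¹ * x⁻¹ ∈ N := by
  by_cases hiso : Cfsg.IsIsolatedInvolution (⟨u, huX⟩ : X)
  · right
    have hI : Cfsg.Agent.Involutions.ZStar.Iso (⟨u, huX⟩ : X) := by
      refine ⟨Subtype.ext hu2, fun g => ?_⟩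
      have h1 := Cfsg.Agent.TwoFusion.Isolated.odd_orderOf_conj_mul hiso g
      have h2 : (⟨u, huX⟩ : X) * (g * ⟨u, huX⟩ * g⁻¹) =
          (⟨u, huX⟩ : X) * (g * ⟨u, huX⟩ * g⁻¹ * ⟨u, huX⟩) * (⟨u, huX⟩ : X)⁻¹ := by group
      rw [h2]
      have h3 := (MulAut.conj (⟨u, huX⟩ : X)).orderOf_eq (g * ⟨u, huX⟩ * g⁻¹ * ⟨u, huX⟩)
      rw [MulAut.conj_apply] at h3
      rw [h3]
      exact h1
    have h1 := Cfsg.Agent.S0215.iso_commutator _ hI
    refine ⟨(pPrimeCore 2 X).map X.subtype, Subgroup.map_subtype_le _, ?_, ?_, ?_⟩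
    · have h3 : Nat.card ((pPrimeCore 2 X).map X.subtype) = Nat.card (pPrimeCore 2 X) :=
        Subgroup.card_map_of_injective X.subtype_injective
      rw [h3]
      exact Nat.coprime_two_right.mp (Cfsg.Agent.Lib.Cores.pPrimeCore_coprime (G := X) 2)
    · rintro x hx _ ⟨n, hn, rfl⟩
      exact ⟨⟨x, hx⟩ * n * ⟨x, hx⟩⁻¹, (inferInstance : (pPrimeCore 2 X).Normal).conj_mem n hn ⟨x, hx⟩, rfl⟩
    · intro x hx
      exact ⟨_, h1 ⟨x, hx⟩, rfl⟩
  · left
    rw [Cfsg.IsIsolatedInvolution, not_and_or] at hiso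
    rcases hiso with h | h
    · exact absurd (orderOf_eq_prime (Subtype.ext (by rw [pow_two]; exact hu2))
        (fun h1 => hu1 (congrArg Subtype.val h1))) h
    · push Not at h
      obtain ⟨⟨g, hg⟩, h1, h2⟩ := h
      refine ⟨g, hg, fun h3 => h2 (Subtype.ext h3), ?_⟩
      exact congrArg Subtype.val h1

section

variable [Finite G] {Om : Set (Subgroup G)} {K L : Subgroup G}

/-- **a member normalises a component not centralised by its involution** -/
theorem le_normalizer_comp (h : Hyp Om) (h2 : ∀ K ∈ Om, IsPGroup 2 K) (h8 : Nat.card K = 8) (hK : K ∈ Om)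
    (hev : EvQ (G ⧸ center G)) (hL : IsComponent L) (hzL : cj (zz K) L = L)
    (hzc : zz K ∉ center G) (hLz : ¬ L ≤ centralizer {zz K})
    (hcen : ∀ x ∈ L, (∀ y ∈ L, x * y = y * x) → x ∈ center G) : K ≤ normalizer (L : Set G) := by
  classical
  intro y hyK
  rw [mem_normalizer_iff_cj]
  by_contra hyL
  have hzz := h.zz_mul hK
  -- `y² = z`
  have hyz : y * y = zz K := by
    refine h.eq_zz hK (K.mul_mem hyK hyK) ?_ ?_
    · have h3 : orderOf (⟨y, hyK⟩ : K) ∣ 8 := by rw [← h8]; exact orderOf_dvd_natCard _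
      rw [Subgroup.orderOf_mk] at h3
      have h4 : orderOf y ∣ 4 := by
        have h5 : orderOf y ∈ Nat.divisors 8 := Nat.mem_divisors.2 ⟨h3, by norm_num⟩
        have h6 : Nat.divisors 8 = {1, 2, 4, 8} := by decide
        rw [h6] at h5
        simp only [Finset.mem_insert, Finset.mem_singleton] at h5
        rcases h5 with h5 | h5 | h5 | h5
        · rw [h5]; norm_num
        · rw [h5]; norm_num
        · rw [h5]
        · exfalso
          -- `K` would be cyclic
          obtain ⟨v, hv, c, hc, hvc⟩ := h.exists_comm_eq hK (h2 K hK)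
          have h7 : zpowers (⟨y, hyK⟩ : K) = ⊤ := by
            apply Subgroup.eq_top_of_card_eq
            rw [Nat.card_zpowers, Subgroup.orderOf_mk, h5, h8]
          have hall : ∀ a b : K, a * b = b * a := by
            intro a b
            have ha : a ∈ zpowers (⟨y, hyK⟩ : K) := by rw [h7]; trivial
            have hb : b ∈ zpowers (⟨y, hyK⟩ : K) := by rw [h7]; trivial
            obtain ⟨i, rfl⟩ := mem_zpowers_iff.1 ha
            obtain ⟨j, rfl⟩ := mem_zpowers_iff.1 hb
            rw [← zpow_add, ← zpow_add, add_comm]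
          have h8' := congrArg Subtype.val (hall ⟨v, hv⟩ ⟨c, hc⟩)
          simp only [Subgroup.coe_mul] at h8'
          apply h.zz_ne hK
          rw [← hvc, h8']; group
      rw [orderOf_dvd_iff_pow_eq_one] at h4
      calc y * y * (y * y) = y ^ 4 := by simp only [pow_succ, pow_zero, one_mul]; group
        _ = 1 := h4
    · intro h3
      -- `y` is an involution of `K` or trivial
      apply hyL
      by_cases h4 : y = 1
      · rw [h4, cj_one]
      · rw [h.eq_zz hK hyK h3 h4, hzL]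
  have key := fun {g : G} (hg : g ∈ L) => comm_mem_center h h2 hK hL hzL hcen hyK hyz hyL hg
  set z := zz K with hz
  set q := QuotientGroup.mk' (center G) with hq
  have hqc : ∀ x : G, q x = 1 ↔ x ∈ center G := fun x => by
    rw [hq, QuotientGroup.mk'_apply, QuotientGroup.eq_one_iff]
  have hzN : zpowers z ≤ normalizer (L : Set G) := by
    rw [zpowers_le, mem_normalizer_iff_cj]; exact hzL
  have hzi : z⁻¹ = z := inv_eq_of_mul_eq_one_right hzz
  have hzm : ∀ a ∈ L, z * a * z⁻¹ ∈ L := fun a ha => by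
    have h3 := conj_mem_cj (g := z) ha
    rwa [hzL] at h3
  rcases zstar_sub (X := (L ⊔ zpowers z).map q) (u := q z)
    ⟨z, (le_sup_right : zpowers z ≤ L ⊔ zpowers z) (mem_zpowers z), rfl⟩
    (by rw [← map_mul, hzz, map_one]) (fun h3 => hzc ((hqc z).1 h3)) with hcase | hcase
  · obtain ⟨_, ⟨x, hx, rfl⟩, hne, hcm⟩ := hcase
    obtain ⟨g, hg, w, hw, rfl⟩ := LB.exists_mul_of_mem_sup (A := L) (B := zpowers z) hzN hx
    have hwz : w * z * w⁻¹ = z := by
      obtain ⟨i, rfl⟩ := mem_zpowers_iff.1 hw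
      group
    have h3 : q (g * w) * q z * (q (g * w))⁻¹ = q (g * z * g⁻¹) := by
      rw [← map_mul, ← map_inv, ← map_mul]
      congr 1
      calc g * w * z * (g * w)⁻¹ = g * (w * z * w⁻¹) * g⁻¹ := by group
        _ = g * z * g⁻¹ := by rw [hwz]
    rw [h3] at hne hcm
    apply hne
    have h4 : q ((z * g * z⁻¹ * g⁻¹) * (z * g * z⁻¹ * g⁻¹)) = 1 := by
      have e1 : z * g * z⁻¹ * g⁻¹ = z * (g * z * g⁻¹) := by rw [hzi]; group
      have e2 : q (z * (g * z * g⁻¹)) = q ((g * z * g⁻¹) * z) := by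
        rw [map_mul, map_mul]; exact hcm
      rw [e1, map_mul]
      nth_rewrite 1 [e2]
      rw [← map_mul]
      have e3 : g * z * g⁻¹ * z * (z * (g * z * g⁻¹)) = 1 := by
        calc g * z * g⁻¹ * z * (z * (g * z * g⁻¹)) = g * z * g⁻¹ * (z * z) * (g * z * g⁻¹) := by group
          _ = g * z * g⁻¹ * (g * z * g⁻¹) := by rw [hzz, mul_one]
          _ = g * (z * z) * g⁻¹ := by group
          _ = 1 := by rw [hzz]; group
      rw [e3, map_one]
    have h5 := (hqc _).2 (key hg ((hqc _).1 h4))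
    have h6 : q z * q (g * z * g⁻¹) = 1 := by
      rw [← map_mul]
      have e1 : z * g * z⁻¹ * g⁻¹ = z * (g * z * g⁻¹) := by rw [hzi]; group
      rw [← e1]; exact h5
    have h7 : (q z)⁻¹ = q z := by rw [← map_inv, hzi]
    rw [← inv_eq_of_mul_eq_one_right h6, h7]
  · obtain ⟨N, hNX, hNo, hNn, hNc⟩ := hcase
    -- the preimage of `N` in `L`
    let N1 : Subgroup L := N.comap (q.comp L.subtype)
    have hN1 : N1.Normal := by
      refine ⟨fun n hn g => ?_⟩
      have h3 := hNn (q g) ⟨g, (le_sup_left : L ≤ L ⊔ zpowers z) g.2, rfl⟩ _ hn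
      change q _ ∈ N
      simpa using h3
    have hcase := SignalizersComponents.Components.quasisimple_normal hL.2 N1 hN1
    rcases hcase with htop | hle
    · -- `L / Z(L)` of odd order
      have h3 : L.map q ≤ N := by
        rintro _ ⟨x, hx, rfl⟩
        have h4 : (⟨x, hx⟩ : L) ∈ N1 := by rw [htop]; trivial
        exact h4
      have hnt : Nontrivial (L.map q) := by
        rw [← not_subsingleton_iff_nontrivial]
        intro hs
        apply hLz
        intro x hx
        have h4 : q x = 1 := by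
          have : (⟨q x, ⟨x, hx, rfl⟩⟩ : L.map q) = 1 := Subsingleton.elim _ _
          exact congrArg Subtype.val this
        rw [mem_centralizer_singleton_iff]
        exact (mem_center_iff.1 ((hqc x).1 h4) z).symm
      have h4 : IsQuasisimple (L.map q) :=
        SignalizersComponents.QuasisimpleQuotient.isQuasisimple_of_surjective (q.subgroupMap L)
          (q.subgroupMap_surjective L) hL.2
      have h5 := (hev _ h4).trans (card_dvd_of_le h3)
      rw [← Nat.not_even_iff_odd, even_iff_two_dvd] at hNo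
      exact hNo h5
    · have h3 : ∀ g ∈ L, z * g * z⁻¹ * g⁻¹ ∈ center G := by
        intro g hg
        have h4 := hNc (q g) ⟨g, (le_sup_left : L ≤ L ⊔ zpowers z) hg, rfl⟩
        have hnL : z * g * z⁻¹ * g⁻¹ ∈ L := L.mul_mem (hzm g hg) (L.inv_mem hg)
        have h5 : (⟨z * g * z⁻¹ * g⁻¹, hnL⟩ : L) ∈ N1 := by
          change q _ ∈ N
          simpa using h4
        have h6 := hle h5
        refine hcen _ hnL fun y hy => ?_
        exact congrArg Subtype.val (mem_center_iff.1 h6 ⟨y, hy⟩).symm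
      -- a homomorphism `L → Z(G)`
      let f : L →* center G :=
        { toFun := fun g => ⟨z * g * z⁻¹ * (g : G)⁻¹, h3 g g.2⟩
          map_one' := Subtype.ext (by simp)
          map_mul' := fun a b => Subtype.ext (by
            simp only [Subgroup.coe_mul]
            have h4 := mem_center_iff.1 (h3 b b.2) (a : G)
            calc z * (↑a * ↑b) * z⁻¹ * ((a : G) * b)⁻¹ =
                (z * a * z⁻¹) * (z * b * z⁻¹ * (b : G)⁻¹) * (a : G)⁻¹ := by group
              _ = (z * a * z⁻¹) * (a : G)⁻¹ * ((a : G) * (z * b * z⁻¹ * (b : G)⁻¹)) * (a : G)⁻¹ := by group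
              _ = (z * a * z⁻¹) * (a : G)⁻¹ * ((z * b * z⁻¹ * (b : G)⁻¹) * (a : G)) * (a : G)⁻¹ := by rw [h4]
              _ = _ := by group) }
      apply hLz
      intro x hx
      have h4 : f ⟨x, hx⟩ = 1 := by
        open scoped IsMulCommutative in
        exact SignalizersComponents.CompBasic.hom_eq_one_of_perfect hL.2.1 f ⟨x, hx⟩
      have h5 : z * x * z⁻¹ * x⁻¹ = 1 := congrArg Subtype.val h4
      rw [mem_centralizer_singleton_iff]
      rw [mul_inv_eq_one, mul_inv_eq_iff_eq_mul] at h5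
      exact h5.symm

end

end Cfsg.Agent.Cit.Nil.Ind.Norm
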